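import Cfsg.Agent.Components.UThreeFour.NormalForm
import Cfsg.Agent.Coprime.SolvableBasics
import Mathlib

/-!
A group of order 320 with commutator subgroup of order 64 whose centre is a four group.
-/

set_option autoImplicit false
set_option linter.unusedSectionVars false
set_option linter.style.haveILetI false

namespace Cfsg.Lib.UThreeFour

open scoped commutatorElement

universe u

variable {G : Type u} [Group G] [Finite G]

/-- counting the fixed points of an element of order five on an invariant subgroup -/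
theorem card_mod_five {g : G} (hg : g ^ 5 = 1) (H C : Subgroup G) (hinv : ∀ y ∈ H, g * y * g⁻¹ ∈ H) (hCH : C ≤ H)
    (hfix : ∀ y ∈ H, g * y * g⁻¹ = y ↔ y ∈ C) : Nat.card H % 5 = Nat.card C % 5 := by
  classical
  haveI : Fintype H := Fintype.ofFinite H
  haveI : Fact (Nat.Prime 5) := ⟨by norm_num⟩
  let f : Function.End H := fun y => ⟨g * y * g⁻¹, hinv y y.2⟩
  have hpow : ∀ (n : ℕ) (y : H), (((f ^ n : Function.End H) y : H) : G) = g ^ n * y * (g ^ n)⁻¹ := by
    intro n
    induction n with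
    | zero => intro y; simp; rfl
    | succ n ih =>
      intro y
      rw [pow_succ']
      show g * (((f ^ n : Function.End H) y : H) : G) * g⁻¹ = _
      rw [ih, pow_succ' g]
      group
  have hf : f ^ 5 ^ 1 = 1 := by
    refine funext fun y => Subtype.ext ?_
    rw [pow_one, hpow, hg]
    simp
    rfl
  have e := Equiv.Perm.card_fixedPoints_modEq (p := 5) (n := 1) hf
  rw [← Nat.card_eq_fintype_card, ← Nat.card_eq_fintype_card] at e
  have hC : Nat.card f.fixedPoints = Nat.card C :=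
    Nat.card_congr {
      toFun := fun y => ⟨(y.1 : G), (hfix _ y.1.2).mp (congrArg Subtype.val y.2)⟩
      invFun := fun c => ⟨⟨(c : G), hCH c.2⟩, Subtype.ext ((hfix _ (hCH c.2)).mpr c.2)⟩
      left_inv := fun _ => rfl
      right_inv := fun _ => rfl }
  rw [← hC]
  exact e

theorem conj_closed_sup_zpowers {C : Subgroup G} {D : Subgroup G} {g : G} (htop : D ⊔ Subgroup.zpowers g = ⊤)
    (hD : D ≤ C) (hg : g ∈ C) : C = ⊤ :=
  top_le_iff.mp (htop ▸ sup_le hD (Subgroup.zpowers_le.mpr hg))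

theorem exists_rel (hG : Nat.card G = 320) (hD : Nat.card (commutator G) = 64)
    (hZ : IsKleinFour (Subgroup.center (commutator G))) :
    ∃ g x : G, Rel g x ∧ Function.Bijective (nf g x) ∧
      ∀ N : Subgroup G, N.Normal → N ≠ ⊥ → ∃ z : Bool × Bool, z ≠ (false, false) ∧ cw g x z ∈ N := by
  classical
  set D := commutator G with hDdef
  haveI hDn : D.Normal := by rw [hDdef]; infer_instance
  haveI : Fact (Nat.Prime 5) := ⟨by norm_num⟩
  haveI : Fact (Nat.Prime 2) := ⟨by norm_num⟩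
  obtain ⟨g, hog⟩ := exists_prime_orderOf_dvd_card' (G := G) 5 (by rw [hG]; norm_num)
  have g5 : g ^ 5 = 1 := by rw [← hog]; exact pow_orderOf_eq_one g
  have htop : D ⊔ Subgroup.zpowers g = ⊤ := by
    have h1 : 64 ∣ Nat.card (D ⊔ Subgroup.zpowers g : Subgroup G) := hD ▸ Subgroup.card_dvd_of_le le_sup_left
    have h2 : 5 ∣ Nat.card (D ⊔ Subgroup.zpowers g : Subgroup G) := by
      rw [← hog, ← Nat.card_zpowers]
      exact Subgroup.card_dvd_of_le le_sup_right
    refine Subgroup.eq_top_of_le_card _ ?_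
    rw [hG]
    exact Nat.le_of_dvd Nat.card_pos (Nat.Coprime.mul_dvd_of_dvd_of_dvd (by norm_num) h1 h2)
  have top_of : ∀ C : Subgroup G, D ≤ C → g ∈ C → C = ⊤ := fun C => conj_closed_sup_zpowers htop
  -- the subgroup generated by squares
  let P : Subgroup G := Subgroup.closure {y | ∃ d ∈ D, d * d = y}
  have sq_memP : ∀ d ∈ D, d * d ∈ P := fun d hd => Subgroup.subset_closure ⟨d, hd, rfl⟩
  haveI hPn : P.Normal := by
    refine ⟨fun y hy a => ?_⟩
    have : P ≤ P.comap (MulAut.conj a).toMonoidHom := by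
      rw [Subgroup.closure_le]
      rintro _ ⟨d, hd, rfl⟩
      refine Subgroup.subset_closure ⟨a * d * a⁻¹, hDn.conj_mem d hd a, ?_⟩
      show a * d * a⁻¹ * (a * d * a⁻¹) = a * (d * d) * a⁻¹
      group
    exact this hy
  have hPD : P ≤ D := (Subgroup.closure_le _).mpr (by rintro _ ⟨d, hd, rfl⟩; exact D.mul_mem hd hd)
  have hP32 : Nat.card P ≤ 32 := by
    obtain ⟨M, hM⟩ := Sylow.exists_subgroup_card_pow_prime 2 (n := 5) (G := D) (by rw [hD]; norm_num)
    have hi : M.index = 2 := by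
      have := M.card_mul_index
      rw [hM, hD] at this
      omega
    have : P ≤ M.map D.subtype := by
      rw [Subgroup.closure_le]
      rintro _ ⟨d, hd, rfl⟩
      refine ⟨⟨d, hd⟩ ^ 2, Subgroup.sq_mem_of_index_two hi _, ?_⟩
      simp [pow_two]
    refine (Subgroup.card_le_of_le this).trans ?_
    rw [Subgroup.card_map_of_injective D.subtype_injective, hM]
    norm_num
  -- the quotient
  let π := QuotientGroup.mk' P
  have hker : ∀ y, π y = 1 ↔ y ∈ P := fun y => QuotientGroup.eq_one_iff y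
  have hsq1 : ∀ d ∈ D, π d * π d = 1 := fun d hd => by rw [← map_mul]; exact (hker _).mpr (sq_memP d hd)
  have hcomD : ∀ d ∈ D, ∀ e ∈ D, π d * π e = π e * π d := fun d hd e he => by
    have i1 := inv_eq_of_mul_eq_one_right (hsq1 d hd)
    have i2 := inv_eq_of_mul_eq_one_right (hsq1 e he)
    have i3 := inv_eq_of_mul_eq_one_right (hsq1 _ (D.mul_mem hd he))
    rw [map_mul, mul_inv_rev, i1, i2] at i3
    exact i3.symm
  -- the commutation map with `g`
  have hδD : ∀ d ∈ D, d⁻¹ * (g * d * g⁻¹) ∈ D := fun d hd => D.mul_mem (D.inv_mem hd) (hDn.conj_mem d hd g)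
  let Rb : Subgroup (G ⧸ P) :=
    { carrier := {y | ∃ d ∈ D, π (d⁻¹ * (g * d * g⁻¹)) = y}
      one_mem' := ⟨1, D.one_mem, by simp⟩
      mul_mem' := by
        rintro _ _ ⟨d, hd, rfl⟩ ⟨e, he, rfl⟩
        refine ⟨d * e, D.mul_mem hd he, ?_⟩
        have c := hcomD _ (D.inv_mem he) _ (hδD d hd)
        calc π ((d * e)⁻¹ * (g * (d * e) * g⁻¹)) = π (e⁻¹ * (d⁻¹ * (g * d * g⁻¹)) * (g * e * g⁻¹)) :=
              congrArg π (by group)
          _ = π (d⁻¹ * (g * d * g⁻¹)) * π (e⁻¹ * (g * e * g⁻¹)) := by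
              rw [map_mul, map_mul π e⁻¹, c, map_mul π e⁻¹, mul_assoc]
      inv_mem' := by
        rintro _ ⟨d, hd, rfl⟩
        exact ⟨d, hd, (inv_eq_of_mul_eq_one_right (hsq1 _ (hδD d hd))).symm⟩ }
  have hRn : Rb.Normal := by
    refine ⟨fun y hy a => ?_⟩
    obtain ⟨a, rfl⟩ := QuotientGroup.mk'_surjective P a
    obtain ⟨d, hd, rfl⟩ := hy
    let C : Subgroup G :=
      { carrier := {b | ∀ d ∈ D, ∃ e ∈ D, π (e⁻¹ * (g * e * g⁻¹)) = π b * π (d⁻¹ * (g * d * g⁻¹)) * (π b)⁻¹}
        one_mem' := fun d hd => ⟨d, hd, by simp⟩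
        mul_mem' := by
          intro b c hb hc d hd
          obtain ⟨e, he, h1⟩ := hc d hd
          obtain ⟨e', he', h2⟩ := hb e he
          refine ⟨e', he', ?_⟩
          rw [h2, h1, map_mul π b c]
          group
        inv_mem' := by
          intro b hb
          have hinj : ∀ y, y ∈ Rb → π b * y * (π b)⁻¹ ∈ Rb := by
            rintro _ ⟨d, hd, rfl⟩
            exact hb d hd
          have hsurj := Finite.surjective_of_injective (f := fun y : Rb => (⟨π b * y * (π b)⁻¹, hinj _ y.2⟩ : Rb))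
            (fun y y' h => Subtype.ext (by simpa using congrArg Subtype.val h))
          intro d hd
          obtain ⟨⟨y, e, he, rfl⟩, hy⟩ := hsurj ⟨_, d, hd, rfl⟩
          refine ⟨e, he, ?_⟩
          have hy' : π b * π (e⁻¹ * (g * e * g⁻¹)) * (π b)⁻¹ = π (d⁻¹ * (g * d * g⁻¹)) := congrArg Subtype.val hy
          rw [← hy', map_inv]
          group }
    have hCtop : C = ⊤ := by
      refine top_of C (fun b hb d hd => ⟨d, hd, ?_⟩) (fun d hd => ⟨g * d * g⁻¹, hDn.conj_mem d hd g, ?_⟩)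
      · rw [hcomD b hb _ (hδD d hd), mul_inv_cancel_right]
      · rw [← map_inv, ← map_mul, ← map_mul]
        exact congrArg π (by group)
    exact (hCtop.ge (Subgroup.mem_top a)) d hd
  let φ := (QuotientGroup.mk' Rb).comp π
  have hφD : ∀ d ∈ D, φ d ∈ Subgroup.center ((G ⧸ P) ⧸ Rb) ∧ Commute (φ d) (φ g) := by
    intro d hd
    have h1 : Commute (φ d) (φ g) := by
      have : φ (d⁻¹ * (g * d * g⁻¹)) = 1 := (QuotientGroup.eq_one_iff _).mpr ⟨d, hd, rfl⟩
      simp only [map_mul, map_inv] at this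
      have h2 := eq_of_inv_mul_eq_one this
      exact mul_inv_eq_iff_eq_mul.mp h2.symm |>.symm
    refine ⟨Subgroup.mem_center_iff.mpr fun y => ?_, h1⟩
    obtain ⟨b, rfl⟩ := (QuotientGroup.mk'_surjective Rb).comp (QuotientGroup.mk'_surjective P) y
    have hC : (Subgroup.centralizer {φ d}).comap φ = ⊤ := by
      refine top_of _ (fun e he => ?_) ?_
      · exact Subgroup.mem_centralizer_singleton_iff.mpr (congrArg (QuotientGroup.mk' Rb) (hcomD e he d hd))
      · exact Subgroup.mem_centralizer_singleton_iff.mpr h1.eq.symm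
    exact Subgroup.mem_centralizer_singleton_iff.mp (hC.ge (Subgroup.mem_top b))
  have hDR : ∀ d ∈ D, π d ∈ Rb := by
    have hle : D ≤ φ.ker := by
      rw [hDdef, commutator_def, Subgroup.commutator_le]
      intro a _ b _
      have hC : (Subgroup.center ((G ⧸ P) ⧸ Rb)).comap φ = ⊤ := by
        refine top_of _ (fun e he => (hφD e he).1) (Subgroup.mem_center_iff.mpr fun y => ?_)
        obtain ⟨b, rfl⟩ := (QuotientGroup.mk'_surjective Rb).comp (QuotientGroup.mk'_surjective P) y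
        have hC : (Subgroup.centralizer {φ g}).comap φ = ⊤ :=
          top_of _ (fun e he => Subgroup.mem_centralizer_singleton_iff.mpr (hφD e he).2.eq)
            (Subgroup.mem_centralizer_singleton_iff.mpr rfl)
        exact Subgroup.mem_centralizer_singleton_iff.mp (hC.ge (Subgroup.mem_top b))
      have ha : φ a ∈ Subgroup.center _ := hC.ge (Subgroup.mem_top a)
      rw [MonoidHom.mem_ker, map_commutatorElement, commutatorElement_eq_one_iff_mul_comm]
      exact (Subgroup.mem_center_iff.mp ha _).symm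
    exact fun d hd => (QuotientGroup.eq_one_iff _).mp (hle hd)
  -- `g` is fixed-point-free
  have hfpf : ∀ d ∈ D, π (g * d * g⁻¹) = π d → d ∈ P := by
    let f : D.map π → D.map π := fun y => ⟨y.1⁻¹ * (π g * y.1 * (π g)⁻¹), by
      obtain ⟨d, hd, hy⟩ := y.2
      exact ⟨d⁻¹ * (g * d * g⁻¹), hδD d hd, by simp [← hy]⟩⟩
    have hs : Function.Surjective f := by
      rintro ⟨_, d, hd, rfl⟩
      obtain ⟨e, he, h⟩ := hDR d hd
      refine ⟨⟨π e, e, he, rfl⟩, Subtype.ext ?_⟩
      simpa [f, map_mul, map_inv] using h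
    intro d hd h
    rw [← hker]
    have := Finite.injective_iff_surjective.mpr hs
      (a₁ := ⟨π d, d, hd, rfl⟩) (a₂ := ⟨1, 1, D.one_mem, map_one π⟩) (Subtype.ext ?_)
    · exact congrArg Subtype.val this
    · simp only [map_mul, map_inv] at h
      simp [f, h]
  -- the orders
  have hmap : Nat.card (D.map π) * Nat.card P = 64 := by
    have h1 : π.ker.relIndex D = Nat.card (D.map π) := Subgroup.relIndex_ker D π
    rw [show π.ker = P from QuotientGroup.ker_mk' P] at h1
    have h2 := Subgroup.relIndex_mul_relIndex ⊥ P D bot_le hPD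
    rw [Subgroup.relIndex_bot_left, Subgroup.relIndex_bot_left, hD, h1] at h2
    rw [mul_comm]; exact h2
  have hP4 : Nat.card P = 4 := by
    have hπg : π g ^ 5 = 1 := by rw [← map_pow, g5, map_one]
    have hmod := card_mod_five hπg (D.map π) ⊥
      (by rintro _ ⟨d, hd, rfl⟩; exact ⟨g * d * g⁻¹, hDn.conj_mem d hd g, by simp⟩) bot_le
      (by
        rintro _ ⟨d, hd, rfl⟩
        refine ⟨fun h => ?_, fun h => ?_⟩
        · rw [Subgroup.mem_bot, hker]
          exact hfpf d hd (by simpa using h)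
        · rw [Subgroup.mem_bot] at h
          simp [h])
    rw [Subgroup.card_bot] at hmod
    obtain ⟨k, hk, hPk⟩ := (Nat.dvd_prime_pow Nat.prime_two).mp (show Nat.card P ∣ 2 ^ 6 from ⟨_, by rw [mul_comm, hmap]; norm_num⟩)
    rw [hPk] at hmap hP32 ⊢
    generalize Nat.card (D.map π) = m at hmap hmod
    interval_cases k <;> norm_num at hmap ⊢ <;> omega
  -- centre
  have gP : ∀ p ∈ P, g * p * g⁻¹ = p := by
    have hmod := card_mod_five g5 P (P ⊓ Subgroup.centralizer {g}) (fun y hy => hPn.conj_mem y hy g) inf_le_left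
      (fun y hy => by
        rw [Subgroup.mem_inf, Subgroup.mem_centralizer_singleton_iff, and_iff_right hy, mul_inv_eq_iff_eq_mul,
          eq_comm])
    have hd := Subgroup.card_dvd_of_le (inf_le_left : P ⊓ Subgroup.centralizer {g} ≤ P)
    have hle := Nat.le_of_dvd Nat.card_pos hd
    rw [hP4] at hd hle hmod
    have heq : P ⊓ Subgroup.centralizer {g} = P := Subgroup.eq_of_le_of_card_ge inf_le_left (by omega)
    intro p hp
    rw [← heq, Subgroup.mem_inf, Subgroup.mem_centralizer_singleton_iff] at hp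
    rw [← hp.2, mul_inv_cancel_right]
  have hPc : ∀ p ∈ P, ∀ d ∈ D, d * p = p * d := by
    intro p hp d hd
    have hcom : ∀ q ∈ P, q * p = p * q := fun q hq =>
      congrArg Subtype.val (IsPGroup.commutative_of_card_eq_prime_sq (p := 2) (by rw [hP4]; norm_num) (⟨q, hq⟩ : P) ⟨p, hp⟩)
    obtain ⟨e, he, h⟩ := hDR d hd
    obtain ⟨q, hq, rfl⟩ : ∃ q ∈ P, d = e⁻¹ * (g * e * g⁻¹) * q :=
      ⟨(e⁻¹ * (g * e * g⁻¹))⁻¹ * d, (hker _).mp (by rw [map_mul, map_inv, h, inv_mul_cancel]), by group⟩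
    have h1 := gP _ (hPn.conj_mem p hp e)
    have hp2 : g⁻¹ * p * g = p := by
      conv_lhs => rw [← gP p hp]
      group
    have h3 : (g * e * g⁻¹) * p = e * p * e⁻¹ * (g * e * g⁻¹) := by
      conv_rhs => rw [← h1]
      conv_lhs => rw [← gP p hp]
      group
    calc e⁻¹ * (g * e * g⁻¹) * q * p = e⁻¹ * ((g * e * g⁻¹) * p) * q := by
          rw [mul_assoc _ q p, hcom q hq]; simp only [mul_assoc]
      _ = p * (e⁻¹ * (g * e * g⁻¹) * q) := by rw [h3]; group
  have hZcard : Nat.card ((Subgroup.center D).map D.subtype) = 4 := by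
    rw [Subgroup.card_map_of_injective D.subtype_injective]
    exact hZ.card_four
  have hPeq : P = (Subgroup.center D).map D.subtype :=
    Subgroup.eq_of_le_of_card_ge
      (fun p hp => ⟨⟨p, hPD hp⟩, Subgroup.mem_center_iff.mpr fun d => Subtype.ext (hPc p hp d d.2), rfl⟩)
      (by rw [hP4, hZcard])
  have hP2 : ∀ p ∈ P, p * p = 1 := by
    intro p hp
    rw [hPeq] at hp
    obtain ⟨c, hc, rfl⟩ := hp
    haveI := hZ
    have := IsKleinFour.mul_self (⟨c, hc⟩ : Subgroup.center D)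
    exact congrArg (fun t : Subgroup.center D => ((t.1 : D) : G)) this
  have hcom : ∀ d ∈ D, ∀ e ∈ D, ⁅d, e⁆ ∈ P := fun d hd e he => by
    rw [← hker, map_commutatorElement, commutatorElement_eq_one_iff_mul_comm]
    exact hcomD d hd e he
  -- the generator
  obtain ⟨d, hd, hdP⟩ : ∃ d ∈ D, d ∉ P := by
    by_contra hne
    push Not at hne
    have := Subgroup.card_le_of_le (show D ≤ P from hne)
    omega
  have hxs : ∀ i, xs g d i ∈ D := fun i => hDn.conj_mem d hd _
  set y := xs g d 0 * (xs g d 1 * (xs g d 2 * xs g d 3)) * xs g d 4 with hy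
  have hyD : y ∈ D := D.mul_mem (D.mul_mem (hxs 0) (D.mul_mem (hxs 1) (D.mul_mem (hxs 2) (hxs 3)))) (hxs 4)
  have hyP : y ∈ P := by
    refine hfpf y hyD ?_
    have e : g * y * g⁻¹ = (g * xs g d 0 * g⁻¹) * ((g * xs g d 1 * g⁻¹) * ((g * xs g d 2 * g⁻¹) *
        (g * xs g d 3 * g⁻¹))) * (g * xs g d 4 * g⁻¹) := by rw [hy]; group
    have x5 : xs g d (4 + 1) = xs g d 0 := by simp [xs, g5]
    rw [e, xs_succ, xs_succ, xs_succ, xs_succ, xs_succ, x5, hy]
    simp only [Nat.reduceAdd]
    rw [show xs g d 0 * (xs g d 1 * (xs g d 2 * xs g d 3)) * xs g d 4 =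
        xs g d 0 * (xs g d 1 * (xs g d 2 * (xs g d 3 * xs g d 4))) by group,
      map_mul π _ (xs g d 0), map_mul π (xs g d 0)]
    exact hcomD _ (D.mul_mem (hxs 1) (D.mul_mem (hxs 2) (D.mul_mem (hxs 3) (hxs 4)))) _ (hxs 0)
  obtain ⟨x, hxdef⟩ : ∃ x, x = d * y := ⟨_, rfl⟩
  have hxD : x ∈ D := hxdef ▸ D.mul_mem hd hyD
  have hxP : x ∉ P := fun h => hdP (by have := P.mul_mem h (P.inv_mem hyP); rwa [hxdef, mul_inv_cancel_right] at this)
  have hxsx : ∀ i, xs g x i ∈ D := fun i => hDn.conj_mem x hxD _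
  have hgy : Commute g y := mul_inv_eq_iff_eq_mul.mp (gP y hyP)
  have hxi : ∀ i, xs g x i = xs g d i * y := fun i => by
    have hi : g ^ i * y = y * g ^ i := (hgy.pow_left i).eq
    simp only [xs, hxdef]
    calc g ^ i * (d * y) * (g ^ i)⁻¹ = g ^ i * d * (g ^ i)⁻¹ * ((g ^ i * y) * (g ^ i)⁻¹) := by group
      _ = _ := by rw [hi, mul_inv_cancel_right]
  have hyc : ∀ e ∈ D, y * e = e * y := fun e he => (hPc y hyP e he).symm
  have cy := fun i => hyc _ (hxs i)
  have cy' : ∀ i r, y * (xs g d i * r) = xs g d i * (y * r) := fun i r => by rw [← mul_assoc, cy, mul_assoc]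
  have hy2 : ∀ r, y * (y * r) = r := fun r => by rw [← mul_assoc, hP2 y hyP, one_mul]
  have hRel : Rel g x :=
    { g5 := g5
      prod := by
        rw [hxi, hxi, hxi, hxi, hxi]
        simp only [mul_assoc, cy', hy2, cy]
        calc _ = y * y := by simp only [hy, mul_assoc]
          _ = 1 := hP2 y hyP
      c1x := (hPc _ (hcom _ hxD _ (hxsx 1)) x hxD).symm
      c2x := (hPc _ (hcom _ hxD _ (hxsx 2)) x hxD).symm
      c1g := (mul_inv_eq_iff_eq_mul.mp (gP _ (hcom _ hxD _ (hxsx 1)))).symm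
      c2g := (mul_inv_eq_iff_eq_mul.mp (gP _ (hcom _ hxD _ (hxsx 2)))).symm
      qg := (mul_inv_eq_iff_eq_mul.mp (gP _ (sq_memP x hxD))).symm
      qsq := hP2 _ (sq_memP x hxD)
      c1sq := hP2 _ (hcom _ hxD _ (hxsx 1))
      c2sq := hP2 _ (hcom _ hxD _ (hxsx 2)) }
  -- surjectivity
  have hsurj : Function.Surjective (nf g x) := by
    let M : Submonoid G :=
      { carrier := Set.range (nf g x)
        one_mem' := ⟨_, nf_one⟩
        mul_mem' := by rintro _ _ ⟨a, rfl⟩ ⟨b, rfl⟩; exact ⟨_, (nf_mul hRel a b).symm⟩ }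
    let K : Subgroup G :=
      { M with
        inv_mem' := by
          intro b hb
          rw [← mem_powers_iff_mem_zpowers.mpr (Subgroup.inv_mem _ (Subgroup.mem_zpowers b)) |>.choose_spec]
          exact M.pow_mem hb _ }
    have hgK : g ∈ K := ⟨_, nf_g⟩
    have hxK : x ∈ K := ⟨_, nf_x⟩
    let L := (K ⊓ D) ⊔ P
    have hLD : L ≤ D := sup_le inf_le_right hPD
    have hLinv : ∀ b ∈ L, g * b * g⁻¹ ∈ L := by
      intro b hb
      obtain ⟨k, hk, p, hp, rfl⟩ := Subgroup.mem_sup_of_normal_right.mp hb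
      rw [show g * (k * p) * g⁻¹ = (g * k * g⁻¹) * (g * p * g⁻¹) by group]
      exact L.mul_mem (Subgroup.mem_sup_left ⟨K.mul_mem (K.mul_mem hgK hk.1) (K.inv_mem hgK), hDn.conj_mem k hk.2 g⟩)
        (Subgroup.mem_sup_right (hPn.conj_mem p hp g))
    have hmod := card_mod_five g5 L P hLinv le_sup_right
      (fun b hb => ⟨fun h => hfpf b (hLD hb) (by rw [h]), gP b⟩)
    have hlt : P < L := lt_of_le_of_ne le_sup_right fun h =>
      hxP (h.ge (Subgroup.mem_sup_left ⟨hxK, hxD⟩))
    have hLc : Nat.card L = 64 := by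
      have h1 : 4 < Nat.card L := by
        rw [← hP4]
        exact lt_of_not_ge fun h => hlt.ne (Subgroup.eq_of_le_of_card_ge hlt.le h)
      have h2 := Subgroup.card_dvd_of_le hLD
      rw [hD] at h2
      rw [hP4] at hmod
      obtain ⟨k, hk, hLk⟩ := (Nat.dvd_prime_pow Nat.prime_two).mp (show Nat.card L ∣ 2 ^ 6 from h2)
      rw [hLk] at h1 hmod ⊢
      interval_cases k <;> simp at h1 hmod ⊢
    have hLeq : L = D := Subgroup.eq_of_le_of_card_ge hLD (by rw [hD, hLc])
    have hPK : P ≤ K := by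
      rw [Subgroup.closure_le]
      rintro _ ⟨e, he, rfl⟩
      obtain ⟨k, hk, p, hp, rfl⟩ := Subgroup.mem_sup_of_normal_right.mp (hLeq.ge he)
      rw [show k * p * (k * p) = k * (p * k) * p by group, ← hPc p hp k hk.2]
      rw [show k * (k * p) * p = k * k * (p * p) by group, hP2 p hp, mul_one]
      exact K.mul_mem hk.1 hk.1
    have hKtop : K = ⊤ := top_of K (hLeq.ge.trans (sup_le inf_le_left hPK)) hgK
    intro b
    exact hKtop.ge (Subgroup.mem_top b)
  have hbij : Function.Bijective (nf g x) :=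
    (Nat.bijective_iff_surjective_and_card _).mpr ⟨hsurj, by rw [card_Q7, hG]⟩
  refine ⟨g, x, hRel, hbij, fun N hN hNb => ?_⟩
  -- `cw` covers `P`
  have hcwP : ∀ z, cw g x z ∈ P := by
    intro z
    obtain ⟨z1, z2⟩ := z
    cases z1 <;> cases z2 <;> simp [cw, cwv, pw, hcom _ hxD _ (hxsx 1), hcom _ hxD _ (hxsx 2), P.mul_mem,
      P.one_mem]
  have hcov : ∀ p ∈ P, ∃ z, cw g x z = p := by
    have hi : Function.Injective (fun z : Bool × Bool => (⟨cw g x z, hcwP z⟩ : P)) := fun z z' h => by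
      have h' : cw g x z = cw g x z' := congrArg Subtype.val h
      rw [← nf_cw, ← nf_cw (g := g) (x := x) z'] at h'
      exact (Prod.ext_iff.mp (Prod.ext_iff.mp (hbij.1 h')).1).2
    have hb := (Nat.bijective_iff_injective_and_card _).mpr ⟨hi, by rw [hP4]; simp⟩
    intro p hp
    obtain ⟨z, hz⟩ := hb.2 ⟨p, hp⟩
    exact ⟨z, congrArg Subtype.val hz⟩
  haveI := hN
  by_cases hND : N ⊓ D = ⊥
  · exfalso
    obtain ⟨n, hn, hn1⟩ := (Subgroup.ne_bot_iff_exists_ne_one).mp hNb |> fun ⟨n, hn⟩ => (⟨n.1, n.2, fun h => hn (Subtype.ext h)⟩ : ∃ n ∈ N, n ≠ 1)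
    have hcen : ∀ b, b * n = n * b := by
      intro b
      have h1 : ⁅b, n⁆ ∈ N ⊓ D := ⟨by
        rw [commutatorElement_def]
        exact N.mul_mem (hN.conj_mem n hn b) (N.inv_mem hn), by
        rw [hDdef, commutator_def]
        exact Subgroup.commutator_mem_commutator (Subgroup.mem_top b) (Subgroup.mem_top n)⟩
      rw [hND, Subgroup.mem_bot, commutatorElement_eq_one_iff_mul_comm] at h1
      exact h1
    obtain ⟨⟨a, i⟩, rfl⟩ := hbij.2 n
    have haD : nfp g x a ∈ D := by
      have hw : ∀ j (b : Bool), pw (xs g x j) b ∈ D := fun j b => by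
        cases b
        · exact D.one_mem
        · exact hxsx j
      exact D.mul_mem (D.mul_mem (hw _ _) (D.mul_mem (hw _ _) (D.mul_mem (hw _ _) (hw _ _)))) (hPD (hcwP _))
    by_cases hi : i = 0
    · have : nf g x (a, i) ∈ N ⊓ D := ⟨hn, by simpa [nf, hi] using haD⟩
      rw [hND, Subgroup.mem_bot] at this
      exact hn1 this
    · -- the power of `g` centralises `x` modulo `P`
      have haP : nfp g x a ∈ P := by
        refine hfpf _ haD (congrArg π ?_)
        have hcg : g ^ (i : ℕ) * g = g * g ^ (i : ℕ) := (Commute.self_pow g i).symm.eq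
        have h := hcen g
        simp only [nf] at h
        have h' : g * nfp g x a * g ^ (i : ℕ) = nfp g x a * g * g ^ (i : ℕ) := by
          rw [mul_assoc g, h, mul_assoc, hcg, ← mul_assoc]
        rw [mul_right_cancel h', mul_inv_cancel_right]
      have hgi : Commute (g ^ (i : ℕ)) x := by
        have h := hcen x
        simp only [nf] at h
        refine (mul_left_cancel (a := nfp g x a) ?_).symm
        rw [← mul_assoc, ← mul_assoc, ← hPc _ haP x hxD, mul_assoc x, h]
      obtain ⟨j, hj⟩ : ∃ j : ℕ, g = (g ^ (i : ℕ)) ^ j := by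
        refine ⟨((i : ℕ) ^ 3), ?_⟩
        rw [← pow_mul, ← pow_succ', pow_eq_pow_mod _ g5]
        have : ((i : ℕ) ^ (3 + 1)) % 5 = 1 :=
          (show ∀ j : Fin 5, j ≠ 0 → ((j : ℕ) ^ (3 + 1)) % 5 = 1 by decide) i hi
        rw [this, pow_one]
      have hgx : Commute g x := by rw [hj]; exact hgi.pow_left j
      exact hxP (hfpf x hxD (congrArg π (by rw [hgx.eq, mul_inv_cancel_right])))
  · have hpgrp : IsPGroup 2 D := IsPGroup.of_card (n := 6) (by rw [hD]; norm_num)
    haveI : Group.IsNilpotent D := hpgrp.isNilpotent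
    have hne : N.subgroupOf D ≠ ⊥ := fun h => hND (by rwa [Subgroup.subgroupOf_eq_bot, disjoint_iff] at h)
    obtain ⟨c, hc, hc1⟩ := (Subgroup.ne_bot_iff_exists_ne_one).mp (Cfsg.Lib.Coprime.inf_center_ne_bot (N.subgroupOf D) hne) |> fun ⟨c, hc⟩ => (⟨c.1, c.2, fun h => hc (Subtype.ext h)⟩ : ∃ c ∈ N.subgroupOf D ⊓ Subgroup.center D, c ≠ 1)
    have hcP : (c : G) ∈ P := by rw [hPeq]; exact ⟨c, hc.2, rfl⟩
    obtain ⟨z, hz⟩ := hcov _ hcP
    refine ⟨z, fun h => hc1 (Subtype.ext ?_), hz ▸ hc.1⟩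
    rw [← hz, h]
    simp [cw, cwv, pw]

end Cfsg.Lib.UThreeFour
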