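import Mathlib

/-!
Normal forms for a group generated by an element `g` of order 5 and the conjugates `x_i = g^i x g^-i` of an element `x`
with central commutators and squares: the shape of `2^(2+4) : 5`.
-/

set_option autoImplicit false
set_option linter.unusedSectionVars false
set_option linter.unusedSimpArgs false

namespace Cfsg.Lib.UThreeFour

open scoped commutatorElement

universe u

variable {X : Type u} [Group X]

/-- the conjugates of `x` -/
def xs (g x : X) (i : ℕ) : X := g ^ i * x * (g ^ i)⁻¹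

/-- the hypotheses -/
structure Rel (g x : X) : Prop where
  g5 : g ^ 5 = 1
  prod : xs g x 0 * (xs g x 1 * (xs g x 2 * xs g x 3)) * xs g x 4 = 1
  c1x : Commute ⁅x, xs g x 1⁆ x
  c2x : Commute ⁅x, xs g x 2⁆ x
  c1g : Commute ⁅x, xs g x 1⁆ g
  c2g : Commute ⁅x, xs g x 2⁆ g
  qg : Commute (x * x) g
  qsq : (x * x) * (x * x) = 1
  c1sq : ⁅x, xs g x 1⁆ * ⁅x, xs g x 1⁆ = 1
  c2sq : ⁅x, xs g x 2⁆ * ⁅x, xs g x 2⁆ = 1

/-- the moving rules for four elements `a b c d` with central `u w q` -/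
structure Moves (a b c d u w q : X) : Prop where
  ba : b * a = a * (b * u)
  cb : c * b = b * (c * u)
  dc : d * c = c * (d * u)
  ca : c * a = a * (c * w)
  db : d * b = b * (d * w)
  da : d * a = a * (d * w)
  aa : a * a = q
  bb : b * b = q
  cc : c * c = q
  dd : d * d = q
  ua : u * a = a * u
  ub : u * b = b * u
  uc : u * c = c * u
  ud : u * d = d * u
  wa : w * a = a * w
  wb : w * b = b * w
  wc : w * c = c * w
  wd : w * d = d * w
  qa : q * a = a * q
  qb : q * b = b * q
  qc : q * c = c * q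
  qd : q * d = d * q
  uq : u * q = q * u
  wq : w * q = q * w
  wu : w * u = u * w
  uu : u * u = 1
  ww : w * w = 1
  qq : q * q = 1

theorem pre {A B C : X} (h : A * B = C) (r : X) : A * (B * r) = C * r := by
  rw [← mul_assoc, h]

theorem Moves.square {a b c d u w q : X} (m : Moves a b c d u w q) :
    (a * (b * (c * d))) * (a * (b * (c * d))) = u * w := by
  simp [mul_assoc, m.ba, m.cb, m.dc, m.ca, m.db, m.da, m.aa, m.bb, m.cc, m.dd, m.ua, m.ub, m.uc, m.ud,
    m.wa, m.wb, m.wc, m.wd, m.qa, m.qb, m.qc, m.qd, m.uq, m.wq, m.wu, m.uu, m.ww, m.qq,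
    pre m.ba, pre m.cb, pre m.dc, pre m.ca, pre m.db, pre m.da, pre m.aa, pre m.bb, pre m.cc, pre m.dd,
    pre m.ua, pre m.ub, pre m.uc, pre m.ud, pre m.wa, pre m.wb, pre m.wc, pre m.wd, pre m.qa, pre m.qb,
    pre m.qc, pre m.qd, pre m.uq, pre m.wq, pre m.wu, pre m.uu, pre m.ww, pre m.qq]

/-- the parameters of the 2-part -/
abbrev Q6 : Type := (Bool × Bool × Bool × Bool) × (Bool × Bool)

/-- a conditional power -/
def pw (y : X) (b : Bool) : X := cond b y 1

/-- the word of four elements -/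
def wordv (a b c d : X) (v : Bool × Bool × Bool × Bool) : X :=
  pw a v.1 * (pw b v.2.1 * (pw c v.2.2.1 * pw d v.2.2.2))

/-- the central word of two elements -/
def cwv (u w : X) (z : Bool × Bool) : X := pw u z.1 * pw w z.2

/-- central addition -/
def addc (z z' : Bool × Bool) : Bool × Bool := (xor z.1 z'.1, xor z.2 z'.2)

/-- right multiplication by a generator: the new word -/
def flipv : Fin 4 → (Bool × Bool × Bool × Bool) → (Bool × Bool × Bool × Bool)
  | 0, (v0, v1, v2, v3) => (!v0, v1, v2, v3)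
  | 1, (v0, v1, v2, v3) => (v0, !v1, v2, v3)
  | 2, (v0, v1, v2, v3) => (v0, v1, !v2, v3)
  | 3, (v0, v1, v2, v3) => (v0, v1, v2, !v3)

/-- right multiplication by a generator: the central correction -/
def corr : Fin 4 → (Bool × Bool × Bool × Bool) → Bool × Bool
  | 0, (v0, v1, v2, v3) => (xor v1 v0, xor (xor v2 v3) v0)
  | 1, (_, v1, v2, v3) => (xor v2 v1, xor v3 v1)
  | 2, (_, _, v2, v3) => (xor v3 v2, v2)
  | 3, (_, _, _, v3) => (v3, v3)

theorem Moves.step_word {a b c d u w : X} (m : Moves a b c d u w (u * w)) (j : Fin 4) (v : Bool × Bool × Bool × Bool) :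
    wordv a b c d v * ![a, b, c, d] j = wordv a b c d (flipv j v) * cwv u w (corr j v) := by
  obtain ⟨v0, v1, v2, v3⟩ := v
  fin_cases j <;> cases v0 <;> cases v1 <;> cases v2 <;> cases v3 <;>
    simp [wordv, cwv, pw, flipv, corr, mul_assoc, m.ba, m.cb, m.dc, m.ca, m.db, m.da, m.aa, m.bb, m.cc, m.dd,
      m.ua, m.ub, m.uc, m.ud, m.wa, m.wb, m.wc, m.wd, m.wu, m.uu, m.ww,
      pre m.ba, pre m.cb, pre m.dc, pre m.ca, pre m.db, pre m.da, pre m.aa, pre m.bb, pre m.cc, pre m.dd,
      pre m.ua, pre m.ub, pre m.uc, pre m.ud, pre m.wa, pre m.wb, pre m.wc, pre m.wd, pre m.wu, pre m.uu, pre m.ww]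

theorem cwv_add {u w : X} (uu : u * u = 1) (ww : w * w = 1) (wu : w * u = u * w) (z z' : Bool × Bool) :
    cwv u w z * cwv u w z' = cwv u w (addc z z') := by
  obtain ⟨z1, z2⟩ := z
  obtain ⟨z1', z2'⟩ := z'
  cases z1 <;> cases z2 <;> cases z1' <;> cases z2' <;>
    simp [cwv, pw, addc, mul_assoc, uu, ww, wu, pre uu, pre ww, pre wu]

/-- the word of the first four coordinates -/
def word (g x : X) (v : Bool × Bool × Bool × Bool) : X :=
  wordv (xs g x 0) (xs g x 1) (xs g x 2) (xs g x 3) v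

/-- the central word -/
def cw (g x : X) (z : Bool × Bool) : X := cwv ⁅x, xs g x 1⁆ ⁅x, xs g x 2⁆ z

/-- the normal form of the 2-part -/
def nfp (g x : X) (a : Q6) : X := word g x a.1 * cw g x a.2

/-- the origin -/
def zero6 : Q6 := ((false, false, false, false), (false, false))

/-- right multiplication by a generator -/
def step (j : Fin 4) (a : Q6) : Q6 := (flipv j a.1, addc (corr j a.1) a.2)

/-- conditional right multiplication -/
def stepIf (j : Fin 4) (b : Bool) (a : Q6) : Q6 := cond b (step j a) a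

/-- multiplication of the 2-part -/
def mulp (a b : Q6) : Q6 :=
  let r := stepIf 3 b.1.2.2.2 (stepIf 2 b.1.2.2.1 (stepIf 1 b.1.2.1 (stepIf 0 b.1.1 a)))
  (r.1, addc r.2 b.2)

/-- conjugation by `g` -/
def act (a : Q6) : Q6 :=
  let r := stepIf 3 a.1.2.2.1 (stepIf 2 a.1.2.1 (stepIf 1 a.1.1 zero6))
  let s := cond a.1.2.2.2 (mulp r ((true, true, true, true), (true, true))) r
  (s.1, addc s.2 a.2)

/-- the parameters of the group -/
abbrev Q7 : Type := Q6 × Fin 5

/-- multiplication in normal form -/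
def mulq (a b : Q7) : Q7 := (mulp a.1 (act^[(a.2 : ℕ)] b.1), a.2 + b.2)

/-- the normal form -/
def nf (g x : X) (a : Q7) : X := nfp g x a.1 * g ^ (a.2 : ℕ)

theorem card_Q7 : Nat.card Q7 = 320 := by
  simp [Nat.card_eq_fintype_card]

variable {g x : X}

theorem xs_succ (i : ℕ) : g * xs g x i * g⁻¹ = xs g x (i + 1) := by
  simp only [xs, pow_succ']
  group

theorem xs_zero : xs g x 0 = x := by simp [xs]

theorem Rel.xs5 (h : Rel g x) (i : ℕ) : xs g x (i + 5) = xs g x i := by
  simp only [xs, pow_add, h.g5, mul_one]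

theorem commute_xs {c : X} (hx : Commute c x) (hg : Commute c g) (i : ℕ) : Commute c (xs g x i) :=
  ((hg.pow_right i).mul_right hx).mul_right (hg.pow_right i).inv_right

theorem commute_comm {c : X} (hx : Commute c x) (hg : Commute c g) (i : ℕ) : Commute c ⁅x, xs g x i⁆ := by
  rw [commutatorElement_def]
  exact ((hx.mul_right (commute_xs hx hg i)).mul_right hx.inv_right).mul_right (commute_xs hx hg i).inv_right

theorem swap_of_comm {a b c : X} (h : ⁅a, b⁆ = c) (hc : c * c = 1) (ha : Commute c a) (hb : Commute c b) :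
    b * a = a * (b * c) := by
  have e : a * b = c * (b * a) := by rw [← h, commutatorElement_def]; group
  calc b * a = (c * c) * (b * a) := by rw [hc, one_mul]
    _ = c * (a * b) := by rw [e, mul_assoc]
    _ = (a * b) * c := (ha.mul_right hb).eq
    _ = a * (b * c) := mul_assoc _ _ _

theorem conj_comm {j k : ℕ} {c : X} (hcx : ⁅x, xs g x k⁆ = c) (hg : Commute c g) :
    ⁅xs g x j, xs g x (j + k)⁆ = c := by
  have e1 : xs g x (j + k) = MulAut.conj (g ^ j) (xs g x k) := by
    simp only [xs, MulAut.conj_apply, pow_add]; group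
  have e2 : xs g x j = MulAut.conj (g ^ j) x := rfl
  rw [e1, e2, ← map_commutatorElement, hcx, MulAut.conj_apply, ← (hg.pow_right j).eq, mul_inv_cancel_right]

theorem Rel.moves' (h : Rel g x) :
    Moves (xs g x 0) (xs g x 1) (xs g x 2) (xs g x 3) ⁅x, xs g x 1⁆ ⁅x, xs g x 2⁆ (x * x) := by
  have qx : Commute (x * x) x := (Commute.refl x).mul_left (Commute.refl x)
  have k1 := fun i => commute_xs h.c1x h.c1g i
  have k2 := fun i => commute_xs h.c2x h.c2g i
  have kq := fun i => commute_xs qx h.qg i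
  have hsq : ∀ i, xs g x i * xs g x i = x * x := fun i => by
    have hq := (h.qg.pow_right i).eq
    calc xs g x i * xs g x i = g ^ i * (x * x) * (g ^ i)⁻¹ := by simp only [xs]; group
      _ = x * x := by rw [← hq, mul_inv_cancel_right]
  exact {
    ba := swap_of_comm (conj_comm (j := 0) rfl h.c1g) h.c1sq (k1 _) (k1 _)
    cb := swap_of_comm (conj_comm (j := 1) rfl h.c1g) h.c1sq (k1 _) (k1 _)
    dc := swap_of_comm (conj_comm (j := 2) rfl h.c1g) h.c1sq (k1 _) (k1 _)
    ca := swap_of_comm (conj_comm (j := 0) rfl h.c2g) h.c2sq (k2 _) (k2 _)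
    db := swap_of_comm (conj_comm (j := 1) rfl h.c2g) h.c2sq (k2 _) (k2 _)
    da := by
      refine swap_of_comm ?_ h.c2sq (k2 _) (k2 _)
      have e := conj_comm (g := g) (x := x) (j := 3) (k := 2) rfl h.c2g
      rw [show (3 : ℕ) + 2 = 0 + 5 from rfl, h.xs5] at e
      rw [← commutatorElement_inv, e, inv_eq_of_mul_eq_one_right h.c2sq]
    aa := hsq 0
    bb := hsq 1
    cc := hsq 2
    dd := hsq 3
    ua := (k1 0).eq
    ub := (k1 1).eq
    uc := (k1 2).eq
    ud := (k1 3).eq
    wa := (k2 0).eq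
    wb := (k2 1).eq
    wc := (k2 2).eq
    wd := (k2 3).eq
    qa := (kq 0).eq
    qb := (kq 1).eq
    qc := (kq 2).eq
    qd := (kq 3).eq
    uq := (commute_comm qx h.qg 1).eq.symm
    wq := (commute_comm qx h.qg 2).eq.symm
    wu := (commute_comm h.c2x h.c2g 1).eq
    uu := h.c1sq
    ww := h.c2sq
    qq := h.qsq }

theorem Rel.sq_eq (h : Rel g x) : x * x = ⁅x, xs g x 1⁆ * ⁅x, xs g x 2⁆ := by
  have qx : Commute (x * x) x := (Commute.refl x).mul_left (Commute.refl x)
  have h4 : xs g x 4 * xs g x 4 = x * x := by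
    have hq := (h.qg.pow_right 4).eq
    calc xs g x 4 * xs g x 4 = g ^ 4 * (x * x) * (g ^ 4)⁻¹ := by simp only [xs]; group
      _ = x * x := by rw [← hq, mul_inv_cancel_right]
  rw [eq_inv_of_mul_eq_one_right h.prod, ← mul_inv_rev, h.moves'.square] at h4
  rw [← inv_eq_of_mul_eq_one_right h.qsq, ← h4, inv_inv]

theorem Rel.moves (h : Rel g x) :
    Moves (xs g x 0) (xs g x 1) (xs g x 2) (xs g x 3) ⁅x, xs g x 1⁆ ⁅x, xs g x 2⁆
      (⁅x, xs g x 1⁆ * ⁅x, xs g x 2⁆) := by
  rw [← h.sq_eq]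
  exact h.moves'

theorem cw_add (h : Rel g x) (z z' : Bool × Bool) : cw g x z * cw g x z' = cw g x (addc z z') :=
  cwv_add h.c1sq h.c2sq (commute_comm h.c2x h.c2g 1).eq z z'

theorem cw_commute (h : Rel g x) {y : X} (h1 : Commute ⁅x, xs g x 1⁆ y) (h2 : Commute ⁅x, xs g x 2⁆ y)
    (z : Bool × Bool) : Commute (cw g x z) y := by
  obtain ⟨z1, z2⟩ := z
  cases z1 <;> cases z2 <;> simp [cw, cwv, pw, h1, h2, h1.mul_left h2]

theorem cw_commute_word (h : Rel g x) (z : Bool × Bool) (v : Bool × Bool × Bool × Bool) :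
    Commute (cw g x z) (word g x v) := by
  have k : ∀ i (b : Bool), Commute (cw g x z) (pw (xs g x i) b) := fun i b => by
    cases b
    · exact Commute.one_right _
    · exact cw_commute h (commute_xs h.c1x h.c1g i) (commute_xs h.c2x h.c2g i) z
  exact (k 0 _).mul_right ((k 1 _).mul_right ((k 2 _).mul_right (k 3 _)))

theorem nfp_zero : nfp g x zero6 = 1 := by simp [nfp, zero6, word, wordv, cw, cwv, pw]

theorem nfp_add (h : Rel g x) (r : Q6) (z : Bool × Bool) :
    nfp g x (r.1, addc r.2 z) = nfp g x r * cw g x z := by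
  rw [nfp, nfp, mul_assoc, cw_add h]

theorem nfp_stepIf (h : Rel g x) (j : Fin 4) (b : Bool) (a : Q6) :
    nfp g x (stepIf j b a) = nfp g x a * pw (xs g x j) b := by
  cases b
  · simp [stepIf, pw]
  · have hj : xs g x (j : ℕ) = ![xs g x 0, xs g x 1, xs g x 2, xs g x 3] j := by fin_cases j <;> rfl
    have e := h.moves.step_word j a.1
    simp only [stepIf, step, pw, cond_true, nfp]
    rw [mul_assoc (word g x a.1), (cw_commute h (commute_xs h.c1x h.c1g _) (commute_xs h.c2x h.c2g _) a.2).eq,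
      ← mul_assoc, hj, ← cw_add h, ← mul_assoc]
    exact congrArg (· * cw g x a.2) e.symm

theorem nfp_mul (h : Rel g x) (a b : Q6) : nfp g x a * nfp g x b = nfp g x (mulp a b) := by
  have e : ∀ r : Q6, nfp g x (stepIf 3 b.1.2.2.2 (stepIf 2 b.1.2.2.1 (stepIf 1 b.1.2.1 (stepIf 0 b.1.1 r)))) =
      nfp g x r * word g x b.1 := fun r => by
    rw [nfp_stepIf h, nfp_stepIf h, nfp_stepIf h, nfp_stepIf h]
    simp [word, wordv, mul_assoc]
  simp only [mulp]
  rw [nfp_add h, e, mul_assoc]
  rfl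

theorem conj_pw (i : ℕ) (b : Bool) : g * pw (xs g x i) b * g⁻¹ = pw (xs g x (i + 1)) b := by
  cases b
  · simp [pw]
  · exact xs_succ i

theorem x4_eq (h : Rel g x) : xs g x 4 = nfp g x ((true, true, true, true), (true, true)) := by
  have m := h.moves
  have e := eq_inv_of_mul_eq_one_right h.prod
  rw [e]
  refine inv_eq_of_mul_eq_one_right ?_
  have s := m.square
  simp only [nfp, word, wordv, cw, cwv, pw, cond_true]
  rw [← mul_assoc, s]
  exact m.qq

theorem nfp_act (h : Rel g x) (a : Q6) : g * nfp g x a * g⁻¹ = nfp g x (act a) := by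
  obtain ⟨⟨v0, v1, v2, v3⟩, z⟩ := a
  have hz : g * cw g x z * g⁻¹ = cw g x z := by
    rw [← (cw_commute h h.c1g h.c2g z).eq, mul_inv_cancel_right]
  have e : g * nfp g x ((v0, v1, v2, v3), z) * g⁻¹ =
      ((g * pw (xs g x 0) v0 * g⁻¹) * ((g * pw (xs g x 1) v1 * g⁻¹) *
        ((g * pw (xs g x 2) v2 * g⁻¹) * (g * pw (xs g x 3) v3 * g⁻¹)))) * (g * cw g x z * g⁻¹) := by
    simp only [nfp, word, wordv]
    group
  have hr : nfp g x (stepIf 3 v2 (stepIf 2 v1 (stepIf 1 v0 zero6))) =
      pw (xs g x 1) v0 * (pw (xs g x 2) v1 * pw (xs g x 3) v2) := by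
    rw [nfp_stepIf h, nfp_stepIf h, nfp_stepIf h, nfp_zero]
    simp [mul_assoc]
  rw [e, conj_pw, conj_pw, conj_pw, conj_pw, hz]
  simp only [act]
  rw [nfp_add h]
  congr 1
  cases v3
  · simp [pw] at hr ⊢
    rw [hr]
  · simp only [cond_true, ← nfp_mul h, hr, pw, x4_eq h, mul_assoc]

theorem nfp_act_pow (h : Rel g x) (i : ℕ) (a : Q6) : g ^ i * nfp g x a * (g ^ i)⁻¹ = nfp g x (act^[i] a) := by
  induction i with
  | zero => simp
  | succ n ih =>
    rw [Function.iterate_succ_apply', ← nfp_act h, ← ih, pow_succ']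
    group

theorem nf_mul (h : Rel g x) (a b : Q7) : nf g x a * nf g x b = nf g x (mulq a b) := by
  have hp : g ^ ((a.2 + b.2 : Fin 5) : ℕ) = g ^ (a.2 : ℕ) * g ^ (b.2 : ℕ) := by
    rw [Fin.val_add, ← pow_eq_pow_mod _ h.g5, pow_add]
  simp only [nf, mulq]
  rw [hp, ← nfp_mul h, ← nfp_act_pow h]
  group

theorem nf_one : nf g x (zero6, 0) = 1 := by simp [nf, nfp_zero]

theorem nf_x : nf g x ((((true, false, false, false) : Bool × Bool × Bool × Bool), (false, false)), 0) = x := by
  simp [nf, nfp, word, wordv, cw, cwv, pw, xs_zero]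

theorem nf_g : nf g x (zero6, 1) = g := by simp [nf, nfp_zero]

theorem nf_cw (z : Bool × Bool) : nf g x ((((false, false, false, false) : Bool × Bool × Bool × Bool), z), 0) = cw g x z := by
  simp [nf, nfp, word, wordv, pw]

/-- the normal forms of two generators of the same shape give a homomorphism -/
theorem exists_hom {G : Type*} [Group G] {g x : G} (h : Rel g x) (hb : Function.Bijective (nf g x))
    {g' x' : X} (h' : Rel g' x') :
    ∃ ψ : G →* X, ψ g = g' ∧ ψ x = x' ∧ ∀ a, ψ (nf g x a) = nf g' x' a := by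
  let e := Equiv.ofBijective _ hb
  have key : ∀ a, nf g' x' (e.symm (nf g x a)) = nf g' x' a := fun a => by
    rw [show e.symm (nf g x a) = a from e.symm_apply_apply a]
  refine ⟨MonoidHom.mk' (fun y => nf g' x' (e.symm y)) fun y y' => ?_, ?_, ?_, key⟩
  · obtain ⟨a, rfl⟩ := hb.2 y
    obtain ⟨b, rfl⟩ := hb.2 y'
    rw [nf_mul h, key, key, key, nf_mul h']
  · have := key (zero6, 1)
    rwa [nf_g, nf_g] at this
  · have := key ((((true, false, false, false) : Bool × Bool × Bool × Bool), (false, false)), 0)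
    rwa [nf_x, nf_x] at this

end Cfsg.Lib.UThreeFour
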