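import Cfsg.Agent.Components.UThreeFour.GroupSide
import Cfsg.Agent.Classical.Unitary.Matrix
import Cfsg.Prelude.Def_Classical
import Mathlib

/-!
The centralizer of an involution of `PSU₃(4)`.
-/

set_option autoImplicit false
set_option linter.unusedSectionVars false
set_option linter.unusedSimpArgs false
set_option linter.style.haveILetI false

namespace Cfsg.Lib.UThreeFour

open scoped commutatorElement MatrixGroups Matrix

universe u

variable {F : Type u} [Field F] [Fintype F] (hF : Fintype.card F = 16)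

include hF

theorem two_eq : (2 : F) = 0 := by
  have h : ((Fintype.card F : ℕ) : F) = 0 := Nat.cast_card_eq_zero F
  rw [hF] at h
  push_cast at h
  exact pow_eq_zero_iff (n := 4) (by norm_num) |>.mp (by linear_combination h)

theorem add4 (a b : F) : (a + b) ^ 4 = a ^ 4 + b ^ 4 := by
  linear_combination (2 * a ^ 3 * b + 3 * a ^ 2 * b ^ 2 + 2 * a * b ^ 3) * two_eq hF

theorem pow16 (a : F) : a ^ 16 = a := hF ▸ FiniteField.pow_card a

omit hF

/-- the matrix of an element of the centralizer of the transposition, with `σ = 1` -/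
def um (c z : F) : Matrix (Fin 3) (Fin 3) F := !![1 + z, z, c; z, 1 + z, c; c ^ 4, c ^ 4, 1]

/-- the underlying matrix -/
def mt (y : Cfsg.SU 3 F 4) : Matrix (Fin 3) (Fin 3) F := ((y : SL(3, F)) : Matrix (Fin 3) (Fin 3) F)

theorem mt_mul (y y' : Cfsg.SU 3 F 4) : mt (y * y') = mt y * mt y' := rfl

theorem mt_one : mt (1 : Cfsg.SU 3 F 4) = 1 := rfl

theorem mt_injective : Function.Injective (mt : Cfsg.SU 3 F 4 → Matrix (Fin 3) (Fin 3) F) :=
  fun _ _ h => Subtype.ext (Subtype.ext h)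

/-- having given coordinates -/
def IsU (y : Cfsg.SU 3 F 4) (c z : F) : Prop := mt y = um c z

theorem IsU.ext {y y' : Cfsg.SU 3 F 4} {c z c' z' : F} (h : IsU y c z) (h' : IsU y' c' z') (hc : c = c') (hz : z = z') :
    y = y' := mt_injective (by rw [show mt y = _ from h, show mt y' = _ from h', hc, hz])

theorem IsU.congr {y : Cfsg.SU 3 F 4} {c z c' z' : F} (h : IsU y c z) (hc : c = c') (hz : z = z') : IsU y c' z' :=
  hc ▸ hz ▸ h

theorem IsU.coord {y : Cfsg.SU 3 F 4} {c z c' z' : F} (h : IsU y c z) (h' : IsU y c' z') : c = c' ∧ z = z' := by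
  have e : um c z = um c' z' := h.symm.trans h'
  exact ⟨by simpa [um] using congrFun (congrFun e 0) 2, by simpa [um] using congrFun (congrFun e 0) 1⟩

theorem isU_one : IsU (1 : Cfsg.SU 3 F 4) 0 0 := by
  show mt 1 = _
  rw [mt_one]
  ext i j
  fin_cases i <;> fin_cases j <;> simp [um]

include hF

theorem um_mul (c z c' z' : F) : um c z * um c' z' = um (c + c') (z + z' + c * c' ^ 4) := by
  have h2 := two_eq hF
  ext i j
  fin_cases i <;> fin_cases j <;> simp [um, Matrix.mul_apply, Fin.sum_univ_three, add4 hF] <;>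
    first
    | linear_combination (z * z') * h2
    | linear_combination (z * c') * h2
    | linear_combination (c ^ 4 * z') * h2
    | linear_combination (c ^ 4 * c') * h2

theorem IsU.mul {y y' : Cfsg.SU 3 F 4} {c z c' z' : F} (h : IsU y c z) (h' : IsU y' c' z') :
    IsU (y * y') (c + c') (z + z' + c * c' ^ 4) := by
  show mt _ = _
  rw [mt_mul, show mt y = _ from h, show mt y' = _ from h', um_mul hF]

theorem IsU.inv {y : Cfsg.SU 3 F 4} {c z : F} (h : IsU y c z) : IsU y⁻¹ c (z + c * c ^ 4) := by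
  have h2 := two_eq hF
  have e1 : mt y⁻¹ * mt y = 1 := by rw [← mt_mul, inv_mul_cancel, mt_one]
  have e2 : mt y * um c (z + c * c ^ 4) = 1 := by
    rw [show mt y = _ from h, um_mul hF]
    exact (congrArg₂ um (by linear_combination c * h2) (by linear_combination (z + c * c ^ 4) * h2)).trans
      (isU_one (F := F)).symm
  show mt _ = _
  calc mt y⁻¹ = mt y⁻¹ * (mt y * um c (z + c * c ^ 4)) := by rw [e2, mul_one]
    _ = um c (z + c * c ^ 4) := by rw [← mul_assoc, e1, one_mul]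

theorem exists_isU {c z : F} (hz : z ^ 4 + z = c ^ 5) : ∃ y : Cfsg.SU 3 F 4, IsU y c z := by
  have h2 := two_eq hF
  have hd : (um c z).det = 1 := by
    simp [um, Matrix.det_fin_three]
    linear_combination (z - c * c ^ 4) * h2
  refine ⟨⟨⟨um c z, hd⟩, fun u v => ?_⟩, rfl⟩
  show Cfsg.hermForm 3 F 4 (um c z *ᵥ u) (um c z *ᵥ v) = Cfsg.hermForm 3 F 4 u v
  have c16 : (c ^ 4) ^ 4 = c := by rw [← pow_mul]; exact pow16 hF c
  simp only [Cfsg.hermForm, Fin.sum_univ_three, um, Matrix.mulVec, dotProduct]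
  simp [add4 hF, mul_pow, c16]
  linear_combination (u 0 * v 0 ^ 4 + u 1 * v 1 ^ 4 + u 0 * v 1 ^ 4 + u 1 * v 0 ^ 4) * hz +
    ((u 0 * v 0 ^ 4 + u 1 * v 1 ^ 4 + u 0 * v 1 ^ 4 + u 1 * v 0 ^ 4) * (c ^ 5 + z ^ 5) +
      (u 0 + u 1) * v 2 ^ 4 * (c ^ 4 + c ^ 4 * z) + u 2 * (v 0 ^ 4 + v 1 ^ 4) * (c + c * z ^ 4) +
      u 2 * v 2 ^ 4 * c ^ 5) * h2

set_option maxHeartbeats 1000000 in
theorem exists_gens : ∃ t g x : Cfsg.SU 3 F 4, mt t = !![0, 1, 0; 1, 0, 0; 0, 0, 1] ∧ t ≠ 1 ∧ t * t = 1 ∧ Commute t g ∧ Commute t x ∧ Rel g x ∧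
    (∀ z : Bool × Bool, z ≠ (false, false) → cw g x z ≠ 1) := by
  classical
  have h2 := two_eq hF
  haveI : Fact (Nat.Prime 5) := ⟨by norm_num⟩
  obtain ⟨ζu, hζu⟩ := exists_prime_orderOf_dvd_card' (G := Fˣ) 5
    (by rw [Nat.card_eq_fintype_card, Fintype.card_units, hF]; norm_num)
  set ζ : F := (ζu : F) with hζdef
  have ζ5 : ζ ^ 5 = 1 := by
    rw [hζdef, ← Units.val_pow_eq_pow_val, ← hζu, pow_orderOf_eq_one, Units.val_one]
  have ζne : ζ ≠ 1 := by
    intro h
    have : ζu = 1 := Units.ext h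
    rw [this, orderOf_one] at hζu
    norm_num at hζu
  -- the transposition
  have htd : (!![0, 1, 0; 1, 0, 0; 0, 0, 1] : Matrix (Fin 3) (Fin 3) F).det = 1 := by
    simp [Matrix.det_fin_three]
    linear_combination (-1 : F) * h2
  let t : Cfsg.SU 3 F 4 := ⟨⟨!![0, 1, 0; 1, 0, 0; 0, 0, 1], htd⟩, fun u v => by
    show Cfsg.hermForm 3 F 4 (!![0, 1, 0; 1, 0, 0; 0, 0, 1] *ᵥ u) (!![0, 1, 0; 1, 0, 0; 0, 0, 1] *ᵥ v) = _
    simp only [Cfsg.hermForm, Fin.sum_univ_three, Matrix.mulVec, dotProduct]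
    simp
    ring⟩
  -- the diagonal element
  have hgd : (!![ζ, 0, 0; 0, ζ, 0; 0, 0, ζ ^ 3] : Matrix (Fin 3) (Fin 3) F).det = 1 := by
    simp [Matrix.det_fin_three]
    linear_combination ζ5
  let g : Cfsg.SU 3 F 4 := ⟨⟨!![ζ, 0, 0; 0, ζ, 0; 0, 0, ζ ^ 3], hgd⟩, fun u v => by
    show Cfsg.hermForm 3 F 4 (!![ζ, 0, 0; 0, ζ, 0; 0, 0, ζ ^ 3] *ᵥ u) (!![ζ, 0, 0; 0, ζ, 0; 0, 0, ζ ^ 3] *ᵥ v) = _
    simp only [Cfsg.hermForm, Fin.sum_univ_three, Matrix.mulVec, dotProduct]
    simp [mul_pow]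
    linear_combination (u 0 * v 0 ^ 4 + u 1 * v 1 ^ 4 + u 2 * v 2 ^ 4 * (ζ ^ 10 + ζ ^ 5 + 1)) * ζ5⟩
  have mtt : mt t = !![0, 1, 0; 1, 0, 0; 0, 0, 1] := rfl
  have mtg : mt g = !![ζ, 0, 0; 0, ζ, 0; 0, 0, ζ ^ 3] := rfl
  obtain ⟨θ, hθdef⟩ : ∃ θ : F, θ = ζ ^ 3 := ⟨_, rfl⟩
  have θ5 : θ ^ 5 = 1 := by rw [hθdef, ← pow_mul, pow_mul' ζ 3 5, ζ5, one_pow]
  have θne : θ ≠ 1 := fun h => ζne (by
    calc ζ = (ζ ^ 3) ^ 2 * (ζ ^ 5)⁻¹ := by rw [ζ5, inv_one, mul_one, ← pow_mul, pow_succ, ζ5, one_mul]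
      _ = 1 := by rw [← hθdef, h, ζ5]; simp)
  have θsum : 1 + θ + θ ^ 2 + θ ^ 3 + θ ^ 4 = 0 := by
    have : (θ - 1) * (1 + θ + θ ^ 2 + θ ^ 3 + θ ^ 4) = 0 := by linear_combination θ5
    exact (mul_eq_zero.mp this).resolve_left (sub_ne_zero.mpr θne)
  obtain ⟨w, hwdef⟩ : ∃ w : F, w = θ + θ ^ 3 := ⟨_, rfl⟩
  have hw : w ^ 4 + w = (1 : F) ^ 5 := by
    rw [hwdef, add4 hF]
    linear_combination (θ ^ 7 + θ ^ 2) * θ5 + θsum + (-1 : F) * h2
  obtain ⟨x, hx⟩ := exists_isU hF hw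
  have g_conj : ∀ {y : Cfsg.SU 3 F 4} {c z : F}, IsU y c z → IsU (g * y * g⁻¹) (θ * c) z := by
    intro y c z hy
    show mt _ = _
    have e : mt g * um c z = um (θ * c) z * mt g := by
      rw [mtg, hθdef]
      ext i j
      fin_cases i <;> fin_cases j <;> simp [um, Matrix.mul_apply, Fin.sum_univ_three] <;>
        first
        | ring1
        | linear_combination (-(c * ζ)) * ζ5
        | linear_combination (-(c ^ 4 * ζ ^ 3 * (ζ ^ 5 + 1))) * ζ5
    calc mt (g * y * g⁻¹) = mt g * um c z * mt g⁻¹ := by rw [mt_mul, mt_mul, show mt y = _ from hy]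
      _ = um (θ * c) z * (mt g * mt g⁻¹) := by rw [e, mul_assoc]
      _ = _ := by rw [← mt_mul, mul_inv_cancel, mt_one, mul_one]
  have hxs : ∀ i, IsU (xs g x i) (θ ^ i) w := by
    intro i
    induction i with
    | zero => simpa [xs] using hx
    | succ n ih =>
      rw [← xs_succ, pow_succ']
      exact g_conj ih
  have hg5 : g ^ 5 = 1 := by
    refine mt_injective ?_
    simp only [pow_succ, pow_zero, one_mul, mt_mul, mtg, mt_one]
    ext i j
    fin_cases i <;> fin_cases j <;> simp [Matrix.mul_apply, Fin.sum_univ_three] <;>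
      first
      | linear_combination ζ5
      | linear_combination (ζ ^ 10 + ζ ^ 5 + 1) * ζ5
  have cen_x : ∀ {y : Cfsg.SU 3 F 4} {z : F}, IsU y 0 z → Commute y x ∧ Commute y g ∧ y * y = 1 := by
    intro y z hy
    refine ⟨(hy.mul hF hx).ext (hx.mul hF hy) (by ring) (by ring), ?_, ?_⟩
    · have e : g * y * g⁻¹ = y := (g_conj hy).ext hy (by ring) rfl
      exact (mul_inv_eq_iff_eq_mul.mp e).symm
    · exact (hy.mul hF hy).ext isU_one (by ring) (by linear_combination z * h2)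
  have hcomm : ∀ k, IsU ⁅x, xs g x k⁆ 0 ((θ ^ k) ^ 4 + θ ^ k) := by
    intro k
    rw [commutatorElement_def]
    exact (((hx.mul hF (hxs k)).mul hF (hx.inv hF)).mul hF ((hxs k).inv hF)).congr
      (by linear_combination (1 + θ ^ k) * h2)
      (by linear_combination (2 * w + 1 + (θ ^ k) ^ 5 + (θ ^ k) ^ 4) * h2)
  have hq : IsU (x * x) 0 1 :=
    (hx.mul hF hx).congr (by linear_combination h2) (by linear_combination w * h2)
  have h1 := hcomm 1
  have h2' := hcomm 2
  have hrel : Rel g x :=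
    { g5 := hg5
      prod := by
        refine ((((hxs 0).mul hF ((hxs 1).mul hF ((hxs 2).mul hF (hxs 3))))).mul hF (hxs 4)).ext isU_one ?_ ?_
        · linear_combination θsum
        · have r5 : ∀ n, θ ^ (n + 5) = θ ^ n := fun n => by rw [pow_add, θ5, mul_one]
          have r6 : θ ^ 6 = θ := (r5 1).trans (pow_one θ)
          simp only [hwdef, add4 hF, ← pow_mul, one_pow, mul_add, add_mul, ← pow_add, pow_zero, one_mul, pow_one,
            Nat.reduceMul, Nat.reduceAdd, ← pow_succ']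
          simp only [θ5, r5 1, r5 2, r5 3, r5 4, r5 5, r5 6, r5 7, r5 8, r5 9, r5 10, r5 11, r5 12, r5 13, r5 14, pow_one,
            Nat.reduceAdd, r6]
          linear_combination (2 * θ ^ 4 + 4 * θ ^ 3 + θ ^ 2 + 3 * θ) * h2
      c1x := (cen_x h1).1
      c2x := (cen_x h2').1
      c1g := (cen_x h1).2.1
      c2g := (cen_x h2').2.1
      qg := (cen_x hq).2.1
      qsq := (cen_x hq).2.2
      c1sq := (cen_x h1).2.2
      c2sq := (cen_x h2').2.2 }
  have htt : t * t = 1 := by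
    refine mt_injective ?_
    rw [mt_mul, mtt, mt_one]
    ext i j
    fin_cases i <;> fin_cases j <;> simp [Matrix.mul_apply, Fin.sum_univ_three]
  have htne : t ≠ 1 := fun h => by
    have := congrArg (fun y => mt y 0 1) h
    simp [mtt, mt_one] at this
  have htg : Commute t g := by
    refine mt_injective ?_
    rw [mt_mul, mt_mul, mtt, mtg]
    ext i j
    fin_cases i <;> fin_cases j <;> simp [Matrix.mul_apply, Fin.sum_univ_three]
  have htx : Commute t x := by
    refine mt_injective ?_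
    rw [mt_mul, mt_mul, mtt, show mt x = _ from hx]
    ext i j
    fin_cases i <;> fin_cases j <;> simp [um, Matrix.mul_apply, Fin.sum_univ_three]
  refine ⟨t, g, x, mtt, htne, htt, htg, htx, hrel, ?_⟩
  · have n1 : ⁅x, xs g x 1⁆ ≠ 1 := fun h => by
      have := ((h ▸ h1).coord isU_one).2
      simp only [pow_one] at this
      have e4 : θ ^ 4 = θ := by linear_combination this - θ * h2
      have e2 : θ ^ 2 = 1 := by linear_combination θ5 - θ * e4
      exact θne (by linear_combination θ5 - (θ ^ 3 + θ) * e2)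
    have n2 : ⁅x, xs g x 2⁆ ≠ 1 := fun h => by
      have := ((h ▸ h2').coord isU_one).2
      have e3 : θ ^ 3 = θ ^ 2 := by linear_combination this - θ ^ 3 * θ5 - θ ^ 2 * h2
      exact θne (by linear_combination θ ^ 3 * e3 - (θ - 1) * θ5)
    have n3 : ⁅x, xs g x 1⁆ * ⁅x, xs g x 2⁆ ≠ 1 := fun h => by
      rw [← hrel.sq_eq] at h
      exact one_ne_zero ((h ▸ hq).coord isU_one).2
    rintro ⟨z1, z2⟩ hz
    cases z1 <;> cases z2 <;> simp_all [cw, cwv, pw]

set_option maxHeartbeats 1000000 in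
theorem card_centralizer_le {t : Cfsg.SU 3 F 4} (mtt : mt t = !![0, 1, 0; 1, 0, 0; 0, 0, 1]) :
    Nat.card (Subgroup.centralizer ({t} : Set (Cfsg.SU 3 F 4))) ≤ 320 := by
  classical
  have h2 := two_eq hF
  let w0 : F → F := fun c => if h : ∃ a : F, a ^ 4 + a = c ^ 5 then h.choose else 0
  let S5 := {a : F // a ^ 5 = 1}
  let S4 := {a : F // a ^ 4 = a}
  have key : ∀ y : Subgroup.centralizer ({t} : Set (Cfsg.SU 3 F 4)), ∃ a b c d e : F,
      mt (y : Cfsg.SU 3 F 4) = !![a, b, c; b, a, c; d, d, e] ∧ (a + b) ^ 5 = 1 ∧ e = (a + b) ^ 3 ∧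
      d = (a + b) ^ 4 * c ^ 4 ∧ (a * (a + b) ^ 4) ^ 4 + a * (a + b) ^ 4 = c ^ 5 := by
    intro y
    have hy := congrArg mt (Subgroup.mem_centralizer_singleton_iff.mp y.2)
    rw [mt_mul, mt_mul, mtt] at hy
    obtain ⟨M, hM⟩ : ∃ M, M = mt (y : Cfsg.SU 3 F 4) := ⟨_, rfl⟩
    rw [← hM] at hy ⊢
    have e : ∀ i j, _ = _ := fun i j => congrFun (congrFun hy i) j
    have e00 := e 0 0
    have e01 := e 0 1
    have e02 := e 0 2
    have e20 := e 2 0
    simp [Matrix.mul_apply, Fin.sum_univ_three] at e00 e01 e02 e20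
    have hform : ∀ u v, Cfsg.hermForm 3 F 4 (M *ᵥ u) (M *ᵥ v) = Cfsg.hermForm 3 F 4 u v := hM ▸ (y : Cfsg.SU 3 F 4).2
    have f00 := hform ![1, 0, 0] ![1, 0, 0]
    have f01 := hform ![1, 0, 0] ![0, 1, 0]
    have f02 := hform ![1, 0, 0] ![0, 0, 1]
    have f22 := hform ![0, 0, 1] ![0, 0, 1]
    simp [Cfsg.hermForm, Matrix.mulVec, dotProduct, Fin.sum_univ_three] at f00 f01 f02 f22
    have hdet : M.det = 1 := hM ▸ (y : Cfsg.SU 3 F 4).1.2
    rw [Matrix.det_fin_three] at hdet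
    have a10 : M 1 0 = M 0 1 := by first | exact e00 | exact e00.symm
    have a11 : M 1 1 = M 0 0 := by first | exact e01 | exact e01.symm
    have a12 : M 1 2 = M 0 2 := by first | exact e02 | exact e02.symm
    have a21 : M 2 1 = M 2 0 := by first | exact e20 | exact e20.symm
    rw [a10, a11, a12, a21] at hdet
    simp only [a10, a11, a12, a21] at f00 f01 f02 f22
    obtain ⟨σ, hσ⟩ : ∃ σ, σ = M 0 0 + M 0 1 := ⟨_, rfl⟩
    have s4 : σ ^ 4 = M 0 0 ^ 4 + M 0 1 ^ 4 := by rw [hσ, add4 hF]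
    have s5 : σ ^ 5 = 1 := by
      linear_combination f00 + f01 + σ * s4 + (M 0 0 ^ 4 + M 0 1 ^ 4) * hσ - (M 2 0 * M 2 0 ^ 4) * h2
    have e5 : M 2 2 ^ 5 = 1 := by linear_combination f22 - (M 0 2 * M 0 2 ^ 4) * h2
    have es : M 2 2 * σ ^ 2 = 1 := by
      rw [hσ]
      linear_combination hdet + (M 2 2 * M 0 1 ^ 2 + M 2 2 * M 0 0 * M 0 1 + M 0 2 * M 2 0 * (M 0 0 - M 0 1)) * h2
    have he : M 2 2 = σ ^ 3 := by linear_combination (-M 2 2) * s5 + σ ^ 3 * es
    have hd : M 2 0 = σ ^ 4 * M 0 2 ^ 4 := by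
      linear_combination M 2 2 * f02 - M 2 0 * e5 + M 2 2 * M 0 2 ^ 4 * hσ - σ * M 0 2 ^ 4 * he -
        σ ^ 4 * M 0 2 ^ 4 * h2
    have hd5 : M 2 0 * M 2 0 ^ 4 = M 0 2 ^ 5 := by
      have c16 := pow16 hF (M 0 2)
      calc M 2 0 * M 2 0 ^ 4 = (σ ^ 5) ^ 4 * (M 0 2 ^ 4 * M 0 2 ^ 16) := by rw [hd]; ring
        _ = M 0 2 ^ 5 := by rw [s5, c16]; ring
    refine ⟨M 0 0, M 0 1, M 0 2, M 2 0, M 2 2, ?_, hσ ▸ s5, hσ ▸ he, hσ ▸ hd, ?_⟩
    · conv_lhs => rw [Matrix.eta_fin_three M]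
      rw [a10, a11, a12, a21]
    · rw [← hσ]
      have w4 : (M 0 0 * σ ^ 4) ^ 4 = M 0 0 ^ 4 * σ := by rw [mul_pow, ← pow_mul, pow16 hF σ]
      linear_combination w4 + f01 + M 0 0 ^ 4 * hσ + M 0 0 * s4 - hd5 + (M 0 0 ^ 5 - M 0 2 ^ 5) * h2
  choose a b c d e hmat hs he hd hw' using key
  let f : Subgroup.centralizer ({t} : Set (Cfsg.SU 3 F 4)) → S5 × F × S4 := fun y =>
    (⟨a y + b y, hs y⟩, c y, ⟨a y * (a y + b y) ^ 4 + w0 (c y), by
      have hex : ∃ v : F, v ^ 4 + v = c y ^ 5 := ⟨_, hw' y⟩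
      have := hex.choose_spec
      rw [add4 hF]
      simp only [w0, dif_pos hex]
      linear_combination hw' y + this + (-(a y * (a y + b y) ^ 4) - hex.choose + c y ^ 5) * h2⟩)
  have hf : Function.Injective f := by
    intro y y' h
    simp only [f, Prod.mk.injEq, Subtype.mk.injEq, S5, S4] at h
    obtain ⟨k1, k2, k3⟩ := h
    rw [k2] at k3
    have kw := add_right_cancel k3
    have ka : a y = a y' := by
      calc a y = a y * (a y + b y) ^ 4 * (a y + b y) := by linear_combination (-(a y)) * hs y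
        _ = a y' * (a y' + b y') ^ 4 * (a y' + b y') := by rw [kw, k1]
        _ = a y' := by linear_combination a y' * hs y'
    have kb : b y = b y' := by linear_combination k1 - ka
    refine Subtype.ext (mt_injective ?_)
    rw [hmat, hmat, he, he y', hd, hd y', ka, kb, k2]
  have c5 : Nat.card S5 ≤ 5 := by
    rw [Nat.card_eq_fintype_card, Fintype.card_subtype]
    refine (Finset.card_le_card (t := (Polynomial.nthRoots 5 (1 : F)).toFinset) fun v hv => ?_).trans
      ((Multiset.toFinset_card_le _).trans (Polynomial.card_nthRoots 5 1))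
    simpa [Polynomial.mem_nthRoots] using (Finset.mem_filter.mp hv).2
  have c4 : Nat.card S4 ≤ 4 := by
    rw [Nat.card_eq_fintype_card, Fintype.card_subtype]
    refine (Finset.card_le_card (t := insert 0 (Polynomial.nthRoots 3 (1 : F)).toFinset) fun v hv => ?_).trans
      ((Finset.card_insert_le _ _).trans (Nat.add_le_add_right
        ((Multiset.toFinset_card_le _).trans (Polynomial.card_nthRoots 3 1)) 1))
    have h4 := (Finset.mem_filter.mp hv).2
    rcases eq_or_ne v 0 with rfl | hv0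
    · simp
    · refine Finset.mem_insert_of_mem ?_
      rw [Multiset.mem_toFinset, Polynomial.mem_nthRoots (by norm_num)]
      exact mul_left_cancel₀ hv0 (by linear_combination h4)
  calc _ ≤ Nat.card (S5 × F × S4) := Nat.card_le_card_of_injective f hf
    _ ≤ 5 * (16 * 4) := by
      rw [Nat.card_prod, Nat.card_prod, Nat.card_eq_fintype_card (α := F), hF]
      exact Nat.mul_le_mul c5 (Nat.mul_le_mul_left _ c4)

theorem center_eq_bot : Subgroup.center (Cfsg.SU 3 F 4) = ⊥ := by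
  have h : Nat.card (Subgroup.center (Cfsg.SU 3 F 4)) = 1 := by
    rw [Cfsg.Lib.Classical.card_center_SU (q := 4) (by rw [hF]; norm_num) (by norm_num)]
    norm_num
  exact Subgroup.card_eq_one.mp h

theorem main {G : Type*} [Group G] [Finite G] (hG : Nat.card G = 320) (hD : Nat.card (commutator G) = 64)
    (hZ : IsKleinFour (Subgroup.center (commutator G))) :
    ∃ t : Cfsg.PSU 3 F 4, orderOf t = 2 ∧ Nonempty (G ≃* Subgroup.centralizer ({t} : Set (Cfsg.PSU 3 F 4))) := by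
  obtain ⟨g, x, hrel, hbij, hN⟩ := exists_rel hG hD hZ
  obtain ⟨t, g', x', mtt, htne, htt, htg, htx, hrel', hcw⟩ := exists_gens hF
  have hcard := card_centralizer_le hF mtt
  obtain ⟨ψ, hψg, hψx, hψ⟩ := exists_hom hrel hbij hrel'
  have hinj : Function.Injective ψ := by
    rw [← MonoidHom.ker_eq_bot_iff]
    by_contra hne
    obtain ⟨z, hz, hzk⟩ := hN ψ.ker inferInstance hne
    refine hcw z hz ?_
    rw [← nf_cw, ← hψ, nf_cw]
    exact hzk
  have hmem : ∀ y, ψ y ∈ Subgroup.centralizer ({t} : Set (Cfsg.SU 3 F 4)) := by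
    have hxs' : ∀ i, Commute t (xs g' x' i) := fun i => commute_xs htx htg i
    intro y
    obtain ⟨⟨⟨v, z⟩, i⟩, rfl⟩ := hbij.2 y
    rw [hψ, Subgroup.mem_centralizer_singleton_iff]
    refine Commute.eq (Commute.symm ?_)
    have hp : ∀ {y : Cfsg.SU 3 F 4} (b : Bool), Commute t y → Commute t (pw y b) := fun b h => by
      cases b
      · exact Commute.one_right _
      · exact h
    exact (((hp _ (hxs' _)).mul_right ((hp _ (hxs' _)).mul_right ((hp _ (hxs' _)).mul_right (hp _ (hxs' _))))).mul_right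
      ((hp _ (commute_comm htx htg 1)).mul_right (hp _ (commute_comm htx htg 2)))).mul_right (htg.pow_right _)
  let e : Cfsg.SU 3 F 4 ≃* Cfsg.PSU 3 F 4 :=
    MulEquiv.ofBijective (QuotientGroup.mk' (Subgroup.center (Cfsg.SU 3 F 4)))
      ⟨by rw [← MonoidHom.ker_eq_bot_iff, QuotientGroup.ker_mk', center_eq_bot hF],
        QuotientGroup.mk'_surjective _⟩
  refine ⟨e t, ?_, ⟨?_⟩⟩
  · refine orderOf_eq_prime ?_ ?_
    · rw [pow_two, ← map_mul, htt, map_one]
    · exact fun h => htne (e.injective (h.trans (map_one e).symm))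
  · let φ : G →* Subgroup.centralizer ({t} : Set (Cfsg.SU 3 F 4)) := ψ.codRestrict _ hmem
    have hφ : Function.Injective φ := fun _ _ h => hinj (congrArg Subtype.val h)
    have hbφ : Function.Bijective φ :=
      (Nat.bijective_iff_injective_and_card _).mpr
        ⟨hφ, le_antisymm (Nat.card_le_card_of_injective φ hφ) (hG ▸ hcard)⟩
    refine (MulEquiv.ofBijective φ hbφ).trans ((e.subgroupMap _).trans (MulEquiv.subgroupCongr ?_))
    ext y
    simp only [Subgroup.mem_map, Subgroup.mem_centralizer_singleton_iff]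
    constructor
    · rintro ⟨y, hy, rfl⟩
      exact (map_mul e y t).symm.trans ((congrArg e hy).trans (map_mul e t y))
    · intro hy
      obtain ⟨y, rfl⟩ := e.surjective y
      exact ⟨y, e.injective (by rw [map_mul, map_mul]; exact hy), rfl⟩

end Cfsg.Lib.UThreeFour
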